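import Cfsg.Agent.GaloisConj.Basic
import Cfsg.Agent.CharactersDeep.PrimePowerDegrees
import Cfsg.Agent.LocalEvenBasic.Replacement
import Cfsg.Agent.FgsSix.MixedOrder.Basic

/-!
# Large primes in finite linear groups

If the finite group `G` has a faithful character of degree `n` then the primes greater than `n + 1`
have an abelian Hall subgroup. The key step is that two irreducible characters moved by the Galois
groups of the `p`-part and of the `q`-part cannot exist without an element of order divisible by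
`p * q`, by computing an inner product of two class functions with disjoint supports.
-/

set_option autoImplicit false

open Subgroup

namespace CfsgLib.Blichfeldt

open CfsgLib.Characters

universe u

/-! ### Galois twists -/

section Galois

variable {G : Type u} [Group G] [Finite G]

open Classical in
/-- Exponents prime to `|G|` which fix every element of order prime to `p`. -/
noncomputable def twists (G : Type u) [Group G] (p : ℕ) : Finset ℕ :=
  (Finset.range (Nat.card G)).filter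
    (fun k => Nat.Coprime k (Nat.card G) ∧ k ≡ 1 [MOD ordCompl[p] (Nat.card G)])

open Classical in
theorem twist_regular {p k : ℕ} (hp : p.Prime) (hk : k ∈ twists G p) {g : G}
    (hg : ¬ p ∣ orderOf g) : g ^ k = g := by
  obtain ⟨-, -, hk1⟩ := Finset.mem_filter.1 hk
  have h2 : orderOf g ∣ ordCompl[p] (Nat.card G) :=
    (Nat.Coprime.pow_right _ ((hp.coprime_iff_not_dvd.2 hg).symm)).dvd_of_dvd_mul_left
      (by rw [Nat.ordProj_mul_ordCompl_eq_self]; exact orderOf_dvd_natCard g)
  conv_rhs => rw [← pow_one g]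
  exact pow_eq_pow_iff_modEq.2 (hk1.of_dvd h2)

open Classical in
theorem exists_twist {p a : ℕ} (hp : p.Prime) (hpG : p ∣ Nat.card G) (ha : ¬ p ∣ a) :
    ∃ k ∈ twists G p, k ≡ a [MOD p] := by
  set N := Nat.card G
  have hN : N ≠ 0 := Nat.card_pos.ne'
  have hcop : (ordProj[p] N).Coprime (ordCompl[p] N) := (Nat.coprime_ordCompl hp hN).pow_left _
  obtain ⟨k, hka, hk1⟩ := Nat.chineseRemainder hcop a 1
  have hmul : ordProj[p] N * ordCompl[p] N = N := Nat.ordProj_mul_ordCompl_eq_self N p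
  have hpp : p ∣ ordProj[p] N :=
    dvd_pow_self p (Nat.one_le_iff_ne_zero.1 ((hp.dvd_iff_one_le_factorization hN).1 hpG))
  have hkN : k % N ≡ k [MOD N] := Nat.mod_modEq _ _
  refine ⟨k % N, Finset.mem_filter.2 ⟨Finset.mem_range.2 (Nat.mod_lt _ Nat.card_pos), ?_, ?_⟩, ?_⟩
  · rw [Nat.Coprime, ← Nat.gcd_rec, Nat.gcd_comm]
    show k.Coprime N
    rw [← hmul]
    refine Nat.Coprime.mul_right (Nat.Coprime.pow_right _ ?_) ?_
    · refine (hp.coprime_iff_not_dvd.2 fun h => ha ?_).symm
      exact ((hka.of_dvd hpp).dvd_iff dvd_rfl).1 h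
    · rw [Nat.Coprime, hk1.gcd_eq, Nat.gcd_one_left]
  · exact (hkN.of_dvd (Nat.ordCompl_dvd N p)).trans hk1
  · exact (hkN.of_dvd hpG).trans (hka.of_dvd hpp)

/-- An element of prime order greater than one more than the degree lies in the kernel of a
character which takes the same value at all its generating powers. -/
theorem eq_degree_of_rational {χ : G → ℂ} (hχ : Cfsg.IsCharacter G χ) {n p : ℕ} (hn : χ 1 = n)
    (hp : p.Prime) (hnp : n + 1 < p) {x : G} (hx : orderOf x = p)
    (h : ∀ a : ℕ, ¬ p ∣ a → χ (x ^ a) = χ x) : χ x = χ 1 := by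
  classical
  obtain ⟨m, ρ, rfl⟩ := hχ
  obtain ⟨μ, hμ, hj, -⟩ := exists_eigenvalues ρ x
  have hdn : Module.finrank ℂ (Fin m → ℂ) = n := by
    rw [Representation.char_one, Nat.cast_inj] at hn
    exact hn
  have hsum : ∑ a ∈ Finset.range p, ρ.character (x ^ a) =
      (n : ℂ) + ((p - 1 : ℕ) : ℂ) * ρ.character x := by
    rw [← Finset.add_sum_erase _ _ (Finset.mem_range.2 hp.pos), pow_zero, hn,
      Finset.sum_congr rfl fun a ha => h a ?_, Finset.sum_const,
      Finset.card_erase_of_mem (Finset.mem_range.2 hp.pos), Finset.card_range, nsmul_eq_mul]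
    obtain ⟨ha0, hap⟩ := Finset.mem_erase.1 ha
    exact fun hd => ha0 (Nat.eq_zero_of_dvd_of_lt hd (Finset.mem_range.1 hap))
  set c := (Finset.univ.filter fun i => μ i = 1).card
  have hcd : c ≤ n := (Finset.card_le_univ _).trans ((Fintype.card_fin _).trans hdn).le
  have hsum2 : ∑ a ∈ Finset.range p, ρ.character (x ^ a) = (p : ℂ) * c := by
    simp only [hj]
    rw [Finset.sum_comm]
    calc ∑ i, ∑ a ∈ Finset.range p, μ i ^ a = ∑ i, if μ i = 1 then (p : ℂ) else 0 := by
          refine Finset.sum_congr rfl fun i _ => ?_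
          split_ifs with hi
          · simp [hi]
          · rw [geom_sum_eq hi, ← hx, hμ i, sub_self, zero_div]
      _ = (p : ℂ) * c := by
          rw [← Finset.sum_filter, Finset.sum_const, nsmul_eq_mul]; ring
  have hp1 : ((p - 1 : ℕ) : ℂ) ≠ 0 := by
    exact_mod_cast (Nat.sub_ne_zero_of_lt hp.one_lt)
  obtain ⟨z, hz⟩ : ∃ z : ℤ, ρ.character x = z := by
    have hq : ρ.character x = (((((p : ℚ) * c - n) / (p - 1 : ℕ)) : ℚ) : ℂ) := by
      push_cast
      rw [eq_div_iff hp1]
      linear_combination hsum2.symm.trans hsum |>.symm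
    have hi : IsIntegral ℤ ((((p : ℚ) * c - n) / (p - 1 : ℕ)) : ℚ) := by
      rw [← isIntegral_algebraMap_iff (B := ℂ) (algebraMap ℚ ℂ).injective, eq_ratCast, ← hq]
      exact char_isIntegral ρ x
    obtain ⟨z, hz⟩ := IsIntegrallyClosed.isIntegral_iff.1 hi
    exact ⟨z, by rw [hq, ← hz]; simp⟩
  rw [hz] at hsum ⊢
  have heq : (p : ℤ) * c = n + ((p - 1 : ℕ) : ℤ) * z := by exact_mod_cast hsum2.symm.trans hsum
  rw [Nat.cast_sub hp.one_lt.le, Nat.cast_one] at heq
  have hcn : (c : ℤ) - n = 0 := by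
    refine Int.eq_zero_of_abs_lt_dvd (m := (p : ℤ) - 1) ⟨z - c, by linarith⟩ ?_
    rw [abs_lt]
    constructor <;> omega
  have hcz : z = n := by
    have hp2 : (p : ℤ) - 1 ≠ 0 := by have := hp.two_le; omega
    apply mul_left_cancel₀ hp2
    have hc' : (c : ℤ) = n := by linarith
    rw [hc'] at heq
    linarith
  rw [hn, hcz]; simp

/-- The difference between `χ` and its average over the twists at `p`. -/
noncomputable def defect (χ : G → ℂ) (p : ℕ) : G → ℂ :=
  fun g => ∑ k ∈ twists G p, (χ g - χ (g ^ k))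

theorem defect_regular {p : ℕ} (hp : p.Prime) (χ : G → ℂ) {g : G} (hg : ¬ p ∣ orderOf g) :
    defect χ p g = 0 :=
  Finset.sum_eq_zero fun k hk => by rw [twist_regular hp hk hg, sub_self]

theorem isIrr_twist {p k : ℕ} {χ : G → ℂ} (h : Cfsg.IsIrrCharacter G χ) (hk : k ∈ twists G p) :
    Cfsg.IsIrrCharacter G (fun g => χ (g ^ k)) := by
  classical
  exact GaloisConj.isIrrCharacter_pow h (Finset.mem_filter.1 hk).2.1

/-- Two primes greater than one more than the degree of an irreducible character which is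
nontrivial on elements of both orders divide the order of a common element. -/
theorem exists_orderOf_dvd {ψ : G → ℂ} (hψ : Cfsg.IsIrrCharacter G ψ) {n : ℕ} (hn : ψ 1 = n)
    {p q : ℕ} (hp : p.Prime) (hq : q.Prime) (hnp : n + 1 < p) (hnq : n + 1 < q) {x y : G}
    (hx : orderOf x = p) (hy : orderOf y = q) (hxk : ψ x ≠ ψ 1) (hyk : ψ y ≠ ψ 1) :
    ∃ g : G, p ∣ orderOf g ∧ q ∣ orderOf g := by
  classical
  haveI := Fintype.ofFinite G
  by_contra! hno
  have hzero : Cfsg.classInner (defect ψ p) (defect ψ q) = 0 := by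
    rw [Cfsg.classInner, Finset.sum_eq_zero, mul_zero]
    intro g _
    by_cases hg : p ∣ orderOf g
    · rw [defect_regular hq ψ (hno g hg), map_zero, mul_zero]
    · rw [defect_regular hp ψ hg, zero_mul]
  let tw : ℕ → G → ℂ := fun k g => ψ (g ^ k)
  let δ : (G → ℂ) → (G → ℂ) → ℤ := fun a b => if a = b then 1 else 0
  have hδ : ∀ {a b : G → ℂ}, Cfsg.IsIrrCharacter G a → Cfsg.IsIrrCharacter G b →
      Cfsg.classInner a b = (δ a b : ℂ) := fun {a b} ha hb => by
    simp only [δ]
    split_ifs with hab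
    · rw [← hab, classInner_isIrr_self ha]; simp
    · rw [classInner_isIrr_ne ha hb hab]; simp
  have hd : ∀ r, defect ψ r = ∑ k ∈ twists G r, (ψ - tw k) := fun r => by
    funext g; simp [defect, tw, Finset.sum_apply]
  have hexp : Cfsg.classInner (defect ψ p) (defect ψ q) =
      ((∑ a ∈ twists G p, ∑ b ∈ twists G q,
        (1 - δ ψ (tw b) - δ (tw a) ψ + δ (tw a) (tw b)) : ℤ) : ℂ) := by
    rw [hd, hd, classInner_sum_left]
    push_cast
    refine Finset.sum_congr rfl fun a ha => ?_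
    rw [classInner_sum_right]
    refine Finset.sum_congr rfl fun b hb => ?_
    rw [classInner_sub_left, classInner_sub_right, classInner_sub_right,
      hδ hψ hψ, hδ hψ (isIrr_twist hψ hb), hδ (isIrr_twist hψ ha) hψ,
      hδ (isIrr_twist hψ ha) (isIrr_twist hψ hb)]
    simp only [δ, if_pos rfl]
    push_cast
    ring
  have hnn : ∀ a ∈ twists G p, ∀ b ∈ twists G q,
      0 ≤ 1 - δ ψ (tw b) - δ (tw a) ψ + δ (tw a) (tw b) := by
    intro a _ b _
    simp only [δ]
    by_cases h1 : ψ = tw b <;> by_cases h2 : tw a = ψ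
    · rw [if_pos h1, if_pos h2, if_pos (h2.trans h1)]; norm_num
    all_goals split_ifs <;> norm_num
  have hmove : ∀ {r : ℕ} {z : G}, r.Prime → n + 1 < r → orderOf z = r → ψ z ≠ ψ 1 →
      ∃ k ∈ twists G r, tw k ≠ ψ := fun {r z} hr hnr hz hzk => by
    by_contra! hall
    refine hzk (eq_degree_of_rational (isCharacter_of_isIrr hψ) hn hr hnr hz fun a ha => ?_)
    obtain ⟨k, hk, hka⟩ := exists_twist hr (hz ▸ orderOf_dvd_natCard z) ha
    have he : z ^ a = z ^ k := pow_eq_pow_iff_modEq.2 (hz.symm ▸ hka.symm)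
    rw [he]
    exact congrFun (hall k hk) z
  obtain ⟨a, ha, ha'⟩ := hmove hp hnp hx hxk
  obtain ⟨b, hb, hb'⟩ := hmove hq hnq hy hyk
  have hpos : 0 < ∑ a ∈ twists G p, ∑ b ∈ twists G q,
      (1 - δ ψ (tw b) - δ (tw a) ψ + δ (tw a) (tw b)) := by
    refine Finset.sum_pos' (fun a ha => Finset.sum_nonneg fun b hb => hnn a ha b hb) ⟨a, ha, ?_⟩
    refine Finset.sum_pos' (fun b hb => hnn a ha b hb) ⟨b, hb, ?_⟩
    simp only [δ, if_neg (Ne.symm hb'), if_neg ha']
    split_ifs <;> norm_num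
  rw [hzero, eq_comm, Int.cast_eq_zero] at hexp
  omega

end Galois

/-! ### Faithful characters -/

section Faithful

variable {G : Type u} [Group G] [Finite G]

/-- Some constituent of a faithful character is nontrivial at a given element. -/
theorem exists_constituent_ne {χ : G → ℂ} (hχ : Cfsg.IsCharacter G χ)
    (hfaith : ∀ g : G, χ g = χ 1 → g = 1) {n : ℕ} (hn : χ 1 = n) {x : G} (hx : x ≠ 1) :
    ∃ ψ : G → ℂ, Cfsg.IsIrrCharacter G ψ ∧ (∃ d : ℕ, ψ 1 = d ∧ d ≤ n) ∧ ψ x ≠ ψ 1 := by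
  classical
  haveI := Fintype.ofFinite G
  obtain ⟨m, hm⟩ := exists_nat_coeff hχ
  choose d hd using fun ψ : Cfsg.IrrCharacter G => exists_degree (isCharacter_of_isIrr ψ.2)
  by_contra! hall
  refine hx (hfaith x ?_)
  have hsum : n = ∑ ψ : Cfsg.IrrCharacter G, m ψ * d ψ := by
    have := congrFun hm 1
    simp only [Finset.sum_apply, Pi.smul_apply, smul_eq_mul, hd, hn] at this
    exact_mod_cast this
  rw [hm]
  simp only [Finset.sum_apply, Pi.smul_apply, smul_eq_mul]
  refine Finset.sum_congr rfl fun ψ _ => ?_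
  rcases Nat.eq_zero_or_pos (m ψ) with h0 | h0
  · simp [h0]
  rw [hall ψ ψ.2 ⟨d ψ, hd ψ, ?_⟩]
  rw [hsum]
  exact (Nat.le_mul_of_pos_left _ h0).trans
    (Finset.single_le_sum (f := fun ψ => m ψ * d ψ) (fun _ _ => Nat.zero_le _) (Finset.mem_univ ψ))

omit [Finite G] in
/-- Restriction of a faithful character to a subgroup. -/
theorem faithful_restrict {χ : G → ℂ} (hfaith : ∀ g : G, χ g = χ 1 → g = 1) (H : Subgroup G) :
    ∀ h : H, (fun h : H => χ h) h = (fun h : H => χ h) 1 → h = 1 :=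
  fun h hh => Subtype.ext (hfaith h hh)

/-- A group all whose prime divisors exceed one more than the degree of a faithful character
is abelian. -/
theorem isMulCommutative_of_primes {χ : G → ℂ} (hχ : Cfsg.IsCharacter G χ)
    (hfaith : ∀ g : G, χ g = χ 1 → g = 1) {n : ℕ} (hn : χ 1 = n)
    (hpr : ∀ q : ℕ, q.Prime → q ∣ Nat.card G → n + 1 < q) : IsMulCommutative G := by
  haveI := Fintype.ofFinite G
  refine ⟨⟨fun a b => ?_⟩⟩
  by_contra hab
  obtain ⟨ψ, hψ, ⟨d, hd, hdn⟩, hne⟩ := exists_constituent_ne hχ hfaith hn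
    (x := a * b * a⁻¹ * b⁻¹) fun h => hab (by
      rwa [mul_inv_eq_one, mul_inv_eq_iff_eq_mul] at h)
  have hd1 : d = 1 := by
    obtain ⟨m, ρ, hρ, rfl⟩ := hψ
    rw [Representation.char_one, Nat.cast_inj] at hd
    by_contra hd1
    obtain ⟨q, hq, hqd⟩ := Nat.exists_prime_and_dvd hd1
    have h1 := hpr q hq (hqd.trans (hd ▸ finrank_dvd_card ρ))
    have h2 := finrank_pos_of_isIrreducible ρ
    have := Nat.le_of_dvd (hd ▸ h2) hqd
    omega
  obtain ⟨f, rfl⟩ := exists_hom_of_degree_one (isCharacter_of_isIrr hψ) (by rw [hd, hd1, Nat.cast_one])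
  refine hne ?_
  simp only [map_mul, map_inv, map_one]
  rw [mul_comm (f a) (f b), mul_inv_cancel_right, mul_inv_cancel]

/-- Subgroups all whose prime divisors exceed one more than the degree are abelian. -/
theorem isMulCommutative_subgroup {χ : G → ℂ} (hχ : Cfsg.IsCharacter G χ)
    (hfaith : ∀ g : G, χ g = χ 1 → g = 1) {n : ℕ} (hn : χ 1 = n) (H : Subgroup G)
    (hpr : ∀ q : ℕ, q.Prime → q ∣ Nat.card H → n + 1 < q) : IsMulCommutative H :=
  isMulCommutative_of_primes (isCharacter_restrict H hχ) (faithful_restrict hfaith H) hn hpr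

/-- A Sylow subgroup for a large prime is abelian. -/
theorem isMulCommutative_isPGroup {χ : G → ℂ} (hχ : Cfsg.IsCharacter G χ)
    (hfaith : ∀ g : G, χ g = χ 1 → g = 1) {n : ℕ} (hn : χ 1 = n) {p : ℕ} [hp : Fact p.Prime]
    (hnp : n + 1 < p) {P : Subgroup G} (hP : IsPGroup p P) : IsMulCommutative P := by
  refine isMulCommutative_subgroup hχ hfaith hn P fun q hq hqP => ?_
  obtain ⟨k, hk⟩ := IsPGroup.iff_card.1 hP
  rw [(Nat.prime_dvd_prime_iff_eq hq hp.out).1 (hq.dvd_of_dvd_pow (hk ▸ hqP))]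
  exact hnp

/-- A `p`-subgroup and a `q`-subgroup normalized by it generate an abelian group, `p`, `q` large. -/
theorem isMulCommutative_sup_pgroups {χ : G → ℂ} (hχ : Cfsg.IsCharacter G χ)
    (hfaith : ∀ g : G, χ g = χ 1 → g = 1) {n : ℕ} (hn : χ 1 = n) {p q : ℕ} [hp : Fact p.Prime]
    [hq : Fact q.Prime] (hnp : n + 1 < p) (hnq : n + 1 < q) {P Q : Subgroup G} (hP : IsPGroup p P)
    (hQ : IsPGroup q Q) (hPQ : P ≤ normalizer (Q : Set G)) : IsMulCommutative ↥(P ⊔ Q) := by
  refine isMulCommutative_subgroup hχ hfaith hn _ fun r hr hrd => ?_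
  obtain ⟨k, hk⟩ := IsPGroup.iff_card.1 hP
  obtain ⟨l, hl⟩ := IsPGroup.iff_card.1 hQ
  have h := hrd.trans (FgsSix.MixedOrder.card_sup_dvd hPQ)
  rw [hk, hl] at h
  rcases hr.dvd_mul.1 h with h | h
  · rw [(Nat.prime_dvd_prime_iff_eq hr hp.out).1 (hr.dvd_of_dvd_pow h)]; exact hnp
  · rw [(Nat.prime_dvd_prime_iff_eq hr hq.out).1 (hr.dvd_of_dvd_pow h)]; exact hnq

end Faithful

end CfsgLib.Blichfeldt
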