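import Cfsg.Agent.Blichfeldt.SixtyNear
import Cfsg.Agent.BlocksCharsC.PGroupCenter
import Cfsg.Prelude.Def_Solvable
import Mathlib.Algebra.DirectSum.LinearMap
import Mathlib.LinearAlgebra.Trace
import Mathlib.RepresentationTheory.Irreducible
import Mathlib.GroupTheory.Sylow
import Mathlib.GroupTheory.Abelianization.Defs
import Mathlib.Data.Nat.Prime.Factorial

/-!
# Linear groups of degree less than `2p`

Feit's theorem: if a finite irreducible linear group of degree `n`, `p < n < 2p`, `p ≥ 7`, has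
non-abelian Sylow `p`-subgroups, it is monomial and `p ^ 2` does not divide the index of the
`p`-core.
-/

set_option autoImplicit false
set_option linter.unusedSectionVars false
set_option linter.style.haveILetI false

namespace CfsgLib.Blichfeldt

open CfsgLib.Jordan Module
open scoped InnerProductSpace commutatorElement

theorem not_sq_dvd_factorial {p : ℕ} (hp : p.Prime) : ∀ m : ℕ, m < 2 * p → ¬ p ^ 2 ∣ m.factorial
  | 0, _ => by
    rw [Nat.factorial_zero, Nat.dvd_one]
    exact fun h => absurd h (ne_of_gt (Nat.one_lt_pow two_ne_zero hp.one_lt))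
  | m + 1, hm => by
    intro h
    rw [Nat.factorial_succ] at h
    by_cases hd : p ∣ m + 1
    · obtain ⟨k, hk⟩ := hd
      have hk1 : k = 1 := by
        rcases k with _ | _ | k
        · omega
        · rfl
        · exfalso; nlinarith
      subst hk1
      rw [hk, mul_one, pow_two] at h
      have h1 := (Nat.Prime.dvd_factorial hp).1 (Nat.dvd_of_mul_dvd_mul_left hp.pos h)
      omega
    · exact not_sq_dvd_factorial hp m (by omega)
        ((Nat.Coprime.pow_left 2 (hp.coprime_iff_not_dvd.2 hd)).dvd_of_dvd_mul_left h)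

variable {G : Type*} [Group G] [Finite G]
  {W : Type*} [NormedAddCommGroup W] [InnerProductSpace ℂ W] [FiniteDimensional ℂ W]
  (u : G →* (W →L[ℂ] W))

/-- An element of the centre and of the derived group of a non-abelian subgroup has a single
eigenvalue other than `1`, of multiplicity `p`. -/
theorem exists_two_eigen (hinj : ∀ g, u g = 1 → g = 1)
    {n p : ℕ} (hdim : Module.finrank ℂ W = n) (hp : p.Prime) (hn2 : n < 2 * p) (P : Subgroup G)
    (y : P) (hyc : ∀ x : P, x * y = y * x) (hyd : y ∈ commutator P) (hy : orderOf y = p) :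
    ∃ (z : G) (V : Submodule ℂ W), z ^ p = 1 ∧
      (∀ w : W, ∃ a b : W, w = a + b ∧ u z a = a ∧ u z b = omega p • b) ∧
      (∀ v, v ∈ V ↔ u z v = omega p • v) ∧ finrank ℂ V = p := by
  classical
  set yG : G := (y : G) with hyG
  have hyp : yG ^ p = 1 := by
    rw [hyG, ← Subgroup.coe_pow, ← hy, pow_orderOf_eq_one, Subgroup.coe_one]
  let E : ℂ → Submodule ℂ W := fun c => Module.End.eigenspace (op u yG) c
  have hE : ∀ c v, v ∈ E c ↔ u yG v = c • v := fun c v => Module.End.mem_eigenspace_iff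
  have hpow : ∀ c v, v ∈ E c → ∀ k : ℕ, u (yG ^ k) v = c ^ k • v := by
    intro c v hv k
    induction k with
    | zero => simp
    | succ k ih =>
      rw [pow_succ, apply_mul, (hE c v).1 hv, map_smul, ih, smul_smul, pow_succ']
  have hroot : ∀ c, E c ≠ ⊥ → c ^ p = 1 := by
    intro c hc
    obtain ⟨v, hv, hv0⟩ := (Submodule.ne_bot_iff _).1 hc
    have h := hpow c v hv p
    rw [hyp, map_one] at h
    exact smul_left_injective ℂ hv0 (show c ^ p • v = (1 : ℂ) • v by rw [one_smul]; exact h.symm)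
  -- on a non-trivial eigenspace the determinant gives divisibility by `p`
  have hdvd : ∀ c, E c ≠ ⊥ → c ≠ 1 → p ∣ finrank ℂ (E c) := by
    intro c hc hc1
    have hinv : ∀ (x : P), ∀ v ∈ E c, op u (x : G) v ∈ E c := by
      intro x v hv
      rw [hE]
      show u yG (u (x : G) v) = c • u (x : G) v
      rw [← apply_mul, show yG * (x : G) = (x : G) * yG from (congrArg Subtype.val (hyc x)).symm,
        apply_mul, (hE c v).1 hv, map_smul]
    let f : P →* Module.End ℂ (E c) :=
      { toFun := fun x => (op u (x : G)).restrict (hinv x)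
        map_one' := by ext v; simp
        map_mul' := fun x x' => by ext v; simp }
    have h1 : (LinearMap.det.comp f).toHomUnits y = 1 :=
      Abelianization.commutator_subset_ker ((LinearMap.det.comp f).toHomUnits) hyd
    have h2 : LinearMap.det (f y) = 1 := congrArg Units.val h1
    have h3 : f y = c • LinearMap.id := by
      ext v
      exact (hE c _).1 v.2
    rw [h3, LinearMap.det_smul, LinearMap.det_id, mul_one] at h2
    haveI := Fact.mk hp
    rw [← orderOf_eq_prime (hroot c hc) hc1]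
    exact orderOf_dvd_of_pow_eq_one h2
  have htop : ⨆ ν : Unit → ℂ, joint u (fun _ => yG) ν = ⊤ :=
    iSup_joint_eq_top u _ fun _ _ => Commute.refl _
  have hj : ∀ ν : Unit → ℂ, joint u (fun _ => yG) ν = E (ν ()) := fun ν => by
    ext v
    rw [mem_joint, hE]
    exact ⟨fun h => h (), fun h _ => h⟩
  -- some eigenvalue is not `1`
  obtain ⟨c, hc, hc1⟩ : ∃ c, E c ≠ ⊥ ∧ c ≠ 1 := by
    by_contra! hall
    have hle : ⨆ ν : Unit → ℂ, joint u (fun _ => yG) ν ≤ E 1 := iSup_le fun ν => by
      rw [hj]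
      by_cases h : E (ν ()) = ⊥
      · rw [h]; exact bot_le
      · rw [hall _ h]
    rw [htop, top_le_iff] at hle
    have hy1 : yG = 1 := hinj _ (ContinuousLinearMap.ext fun w => by
      have := (hE 1 w).1 (hle ▸ Submodule.mem_top)
      simpa using this)
    rw [hyG, OneMemClass.coe_eq_one] at hy1
    rw [hy1, orderOf_one] at hy
    exact hp.ne_one hy.symm
  have hposE : 0 < finrank ℂ (E c) :=
    Nat.pos_of_ne_zero fun h => hc (Submodule.finrank_eq_zero.1 h)
  have hcdim : finrank ℂ (E c) = p := by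
    obtain ⟨k, hk⟩ := hdvd c hc hc1
    have hle : finrank ℂ (E c) ≤ n := hdim ▸ Submodule.finrank_le _
    rcases k with _ | _ | k
    · rw [hk] at hposE; omega
    · omega
    · exfalso; nlinarith
  have honly : ∀ c', E c' ≠ ⊥ → c' ≠ 1 → c' = c := by
    intro c' hc' hc'1
    by_contra hne
    have hdis : Disjoint (E c) (E c') := by
      rw [Submodule.disjoint_def]
      intro v hv hv'
      have h := ((hE c v).1 hv).symm.trans ((hE c' v).1 hv')
      rw [← sub_eq_zero, ← sub_smul, smul_eq_zero] at h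
      exact h.resolve_left (sub_ne_zero.2 (Ne.symm hne))
    have h1 := Submodule.finrank_add_finrank_le_of_disjoint hdis
    have h2 := Nat.le_of_dvd (Nat.pos_of_ne_zero fun h => hc' (Submodule.finrank_eq_zero.1 h))
      (hdvd c' hc' hc'1)
    omega
  have hsup : E 1 ⊔ E c = ⊤ := by
    refine top_le_iff.1 (htop ▸ iSup_le fun ν => ?_)
    rw [hj]
    by_cases h : E (ν ()) = ⊥
    · rw [h]; exact bot_le
    by_cases h1 : ν () = 1
    · rw [h1]; exact le_sup_left
    · rw [honly _ h h1]; exact le_sup_right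
  -- normalise the eigenvalue
  haveI := Fact.mk hp
  haveI : NeZero p := ⟨hp.ne_zero⟩
  have hprim : IsPrimitiveRoot c p := orderOf_eq_prime (hroot c hc) hc1 ▸ IsPrimitiveRoot.orderOf c
  have hω : omega p ^ p = 1 := (Complex.isPrimitiveRoot_exp p hp.ne_zero).pow_eq_one
  obtain ⟨k, hk, hck⟩ := hprim.eq_pow_of_pow_eq_one hω
  refine ⟨yG ^ k, E c, by rw [← pow_mul, mul_comm, pow_mul, hyp, one_pow], fun w => ?_,
    fun v => ⟨fun hv => hck ▸ hpow c v hv k, fun hv => ?_⟩, hcdim⟩
  · obtain ⟨a, ha, b, hb, rfl⟩ := Submodule.mem_sup.1 (hsup ▸ Submodule.mem_top : w ∈ E 1 ⊔ E c)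
    exact ⟨a, b, rfl, by rw [hpow 1 a ha, one_pow, one_smul], by rw [hpow c b hb, hck]⟩
  · obtain ⟨a, ha, b, hb, rfl⟩ := Submodule.mem_sup.1 (hsup ▸ Submodule.mem_top : v ∈ E 1 ⊔ E c)
    rw [map_add, hpow 1 a ha, hpow c b hb, hck, one_pow, one_smul, smul_add] at hv
    have h := add_right_cancel hv
    have hω1 : omega p ≠ 1 := (Complex.isPrimitiveRoot_exp p hp.ne_zero).ne_one hp.one_lt
    have ha0 : a = 0 := by
      have : (omega p - 1) • a = 0 := by rw [sub_smul, one_smul, ← h, sub_self]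
      exact (smul_eq_zero.1 this).resolve_left (sub_ne_zero.2 hω1)
    rw [ha0, zero_add]
    exact hb

/-- Feit's theorem in degree `p < n < 2p`. -/
theorem not_sq_dvd_index_pCore (hu : ∀ g w, ‖u g w‖ = ‖w‖) (hinj : ∀ g, u g = 1 → g = 1)
    (hirr : ∀ S : Submodule ℂ W, (∀ g, ∀ w ∈ S, u g w ∈ S) → S = ⊥ ∨ S = ⊤)
    {n p : ℕ} (hdim : Module.finrank ℂ W = n) (hp : p.Prime) (h7 : 7 ≤ p) (hn2 : n < 2 * p)
    (hnp : n ≠ p) (P : Sylow p G)
    (hna : ∃ x ∈ (P : Subgroup G), ∃ y ∈ (P : Subgroup G), x * y ≠ y * x) :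
    ¬ p ^ 2 ∣ (Cfsg.pCore p G).index := by
  classical
  haveI := Fact.mk hp
  obtain ⟨x₁, hx₁, x₂, hx₂, hx⟩ := hna
  haveI : Nontrivial (commutator ↥(P : Subgroup G)) := by
    rw [Subgroup.nontrivial_iff_ne_bot]
    intro h
    have h1 : ⁅(⟨x₁, hx₁⟩ : (P : Subgroup G)), ⟨x₂, hx₂⟩⁆ ∈ commutator ↥(P : Subgroup G) :=
      Subgroup.commutator_mem_commutator (Subgroup.mem_top _) (Subgroup.mem_top _)
    rw [h, Subgroup.mem_bot, commutatorElement_eq_one_iff_mul_comm] at h1
    exact hx (congrArg Subtype.val h1)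
  have hC := BlocksCharsC.inf_center_ne_bot P.isPGroup' (commutator ↥(P : Subgroup G))
  obtain ⟨y, hy⟩ : ∃ y : ↥(commutator ↥(P : Subgroup G) ⊓ Subgroup.center ↥(P : Subgroup G)),
      orderOf y = p := by
    refine exists_prime_orderOf_dvd_card' p ?_
    exact ((P.isPGroup'.to_subgroup _).card_eq_or_dvd).resolve_left fun h =>
      hC (Subgroup.eq_bot_of_card_eq _ h)
  obtain ⟨hyd, hyc⟩ := Subgroup.mem_inf.1 y.2
  obtain ⟨z, V, hzp, hsplit, hV, hVdim⟩ := exists_two_eigen u hinj hdim hp hn2 P y.1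
    (fun x => Subgroup.mem_center_iff.1 hyc x) hyd (by rw [Subgroup.orderOf_coe, hy])
  have hω1 : omega p ≠ 1 := (Complex.isPrimitiveRoot_exp p hp.ne_zero).ne_one hp.one_lt
  have hpn : p < n := by
    have := hdim ▸ Submodule.finrank_le V
    omega
  -- the abelian normal subgroup generated by the conjugates
  set A := Subgroup.normalClosure ({z} : Set G) with hA
  have hcz : ∀ g h : G, Commute (g * z * g⁻¹) (h * z * h⁻¹) := by
    intro g h
    have h1 := (commute_conj_of_two_eigen u hu hinj h7 hω1 z hsplit (h⁻¹ * g)).map (MulAut.conj h)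
    simp only [MulAut.conj_apply] at h1
    rwa [show h * (h⁻¹ * g * z * (h⁻¹ * g)⁻¹) * h⁻¹ = g * z * g⁻¹ by group] at h1
  have hAc : ∀ a b : A, Commute (a : G) (b : G) := by
    have hconj : ∀ x ∈ Group.conjugatesOfSet ({z} : Set G), ∃ g : G, g * z * g⁻¹ = x := by
      intro x hx
      obtain ⟨a, ha, hc⟩ := Group.mem_conjugatesOfSet_iff.1 hx
      rw [Set.mem_singleton_iff] at ha
      subst ha
      exact isConj_iff.1 hc
    have h1 : A ≤ Subgroup.centralizer (Group.conjugatesOfSet ({z} : Set G)) := by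
      rw [hA, Subgroup.normalClosure, Subgroup.closure_le]
      intro a ha
      refine Subgroup.mem_centralizer_iff.2 fun b hb => ?_
      obtain ⟨g, rfl⟩ := hconj a ha
      obtain ⟨h, rfl⟩ := hconj b hb
      exact (hcz h g).eq
    intro a b
    have h2 : A ≤ Subgroup.centralizer (A : Set G) := by
      conv_lhs => rw [hA, Subgroup.normalClosure]
      rw [Subgroup.closure_le]
      exact fun x hx => Subgroup.mem_centralizer_iff.2 fun y hy =>
        (Subgroup.mem_centralizer_iff.1 (h1 hy) x hx).symm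
    exact Subgroup.mem_centralizer_iff.1 (h2 b.2) a a.2
  -- the joint eigenspaces
  let ga : A → G := Subtype.val
  have hind := (joint_orthogonal u hu ga).independent
  have htop := iSup_joint_eq_top u ga hAc
  let Λ := {ν : A → ℂ // joint u ga ν ≠ ⊥}
  haveI : Fintype Λ := hind.fintypeNeBotOfFiniteDimensional
  have hAn : A.Normal := Subgroup.normalClosure_normal
  let T : G → (A → ℂ) → (A → ℂ) := fun g ν a =>
    ν ⟨g⁻¹ * (a : G) * g, by simpa using hAn.conj_mem _ a.2 g⁻¹⟩
  have hT1 : ∀ ν, T 1 ν = ν := fun ν => funext fun a => congrArg ν (Subtype.ext (by simp))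
  have hTm : ∀ g h ν, T (g * h) ν = T g (T h ν) := fun g h ν =>
    funext fun a => congrArg ν (Subtype.ext (by simp [mul_assoc]))
  have hmove : ∀ g ν, ∀ v ∈ joint u ga ν, u g v ∈ joint u ga (T g ν) := by
    intro g ν v hv
    rw [mem_joint] at hv ⊢
    intro a
    show u (a : G) (u g v) = T g ν a • u g v
    rw [← apply_mul, show (a : G) * g = g * (g⁻¹ * (a : G) * g) by group, apply_mul]
    have h := hv ⟨g⁻¹ * (a : G) * g, by simpa using hAn.conj_mem _ a.2 g⁻¹⟩
    rw [show u (g⁻¹ * (a : G) * g) v = T g ν a • v from h, map_smul]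
  have hle : ∀ g ν, finrank ℂ (joint u ga ν) ≤ finrank ℂ (joint u ga (T g ν)) := by
    intro g ν
    refine LinearMap.finrank_le_finrank_of_injective (f := (op u g).restrict (hmove g ν)) ?_
    intro v w h
    have h1 : u g (v : W) = u g (w : W) := congrArg Subtype.val h
    have h2 := congrArg (u g⁻¹) h1
    rw [← apply_mul, ← apply_mul] at h2
    exact Subtype.ext (by simpa using h2)
  have heq : ∀ g ν, finrank ℂ (joint u ga (T g ν)) = finrank ℂ (joint u ga ν) := fun g ν => by
    refine le_antisymm ?_ (hle g ν)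
    have := hle g⁻¹ (T g ν)
    rwa [← hTm, inv_mul_cancel, hT1] at this
  have hTne : ∀ g (ν : Λ), joint u ga (T g ν.1) ≠ ⊥ := fun g ν h => ν.2 (by
    rw [← Submodule.finrank_eq_zero, ← heq g, h, finrank_bot])
  -- the eigenspaces are permuted transitively
  haveI : Nontrivial W := Module.nontrivial_of_finrank_pos (R := ℂ) (by omega)
  have hint : DirectSum.IsInternal fun ν : Λ => joint u ga ν.1 := by
    refine DirectSum.isInternal_submodule_of_iSupIndep_of_iSup_eq_top
      (hind.comp Subtype.val_injective) (top_le_iff.1 (htop ▸ iSup_le fun ν => ?_))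
    by_cases h : joint u ga ν = ⊥
    · rw [h]; exact bot_le
    · exact le_iSup (fun ν : Λ => joint u ga ν.1) ⟨ν, h⟩
  obtain ⟨ν₀⟩ : Nonempty Λ := by
    by_contra h
    rw [not_nonempty_iff] at h
    have := hint.submodule_iSup_eq_top
    rw [iSup_of_empty] at this
    exact bot_ne_top this
  have htrans : ∀ ν : Λ, ∃ g, T g ν₀.1 = ν.1 := by
    intro ν
    by_contra! hno
    set S := ⨆ g, joint u ga (T g ν₀.1) with hS
    have hSinv : ∀ g, ∀ w ∈ S, u g w ∈ S := by
      intro g w hw
      have : S.map (op u g) ≤ S := by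
        rw [hS, Submodule.map_iSup]
        refine iSup_le fun h => ?_
        refine le_trans (Submodule.map_le_iff_le_comap.2 fun v hv => ?_)
          (le_iSup (fun k => joint u ga (T k ν₀.1)) (g * h))
        show u g v ∈ joint u ga (T (g * h) ν₀.1)
        rw [hTm]; exact hmove g _ v hv
      exact this (Submodule.mem_map_of_mem hw)
    rcases hirr S hSinv with h | h
    · refine hTne 1 ν₀ (eq_bot_iff.2 ?_)
      have h' := le_iSup (fun k => joint u ga (T k ν₀.1)) 1
      rwa [← hS, h] at h'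
    · refine ν.2 (eq_bot_iff.2 ?_)
      refine (le_inf le_rfl (le_top.trans ?_)).trans (disjoint_iff.1 (hind ν.1)).le
      rw [← h]
      exact iSup_le fun g => le_iSup₂ (f := fun μ (_ : μ ≠ ν.1) => joint u ga μ) (T g ν₀.1) (hno g)
  set e := finrank ℂ (joint u ga ν₀.1)
  have he : ∀ ν : Λ, finrank ℂ (joint u ga ν.1) = e := fun ν => by
    obtain ⟨g, hg⟩ := htrans ν
    rw [← hg, heq]
  have hscal : ∀ (a : A) (ν : Λ) (c : ℂ) (f : Module.End ℂ W)
      (hf : ∀ v ∈ joint u ga ν.1, f v = c • v),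
      LinearMap.trace ℂ _ (f.restrict (p := joint u ga ν.1) (q := joint u ga ν.1)
        (fun v hv => by rw [hf v hv]; exact Submodule.smul_mem _ c hv)) = c * e := by
    intro a ν c f hf
    have : f.restrict (p := joint u ga ν.1) (q := joint u ga ν.1)
        (fun v hv => by rw [hf v hv]; exact Submodule.smul_mem _ c hv) = c • LinearMap.id := by
      ext v
      exact hf v v.2
    rw [this, map_smul, LinearMap.trace_id, he, smul_eq_mul]
  have hn : n = Fintype.card Λ * e := by
    have h := LinearMap.trace_eq_sum_trace_restrict hint (f := (LinearMap.id : W →ₗ[ℂ] W))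
      (fun _ v hv => hv)
    rw [LinearMap.trace_id, hdim, Finset.sum_congr rfl fun ν _ =>
      hscal 1 ν 1 _ (fun v _ => by simp), Finset.sum_const, nsmul_eq_mul, one_mul] at h
    exact_mod_cast h
  -- the eigenspace of `z` forces lines
  have hzA : z ∈ A := Subgroup.subset_normalClosure (Set.mem_singleton z)
  let f : Module.End ℂ W := (omega p - 1)⁻¹ • (op u z - 1)
  have hfE : ∀ v, u z v = omega p • v → f v = v := fun v hv => by
    show (omega p - 1)⁻¹ • (u z v - v) = v
    rw [hv, show omega p • v - v = (omega p - 1) • v by rw [sub_smul, one_smul], smul_smul,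
      inv_mul_cancel₀ (sub_ne_zero.2 hω1), one_smul]
  have hproj : LinearMap.IsProj V f := by
    refine ⟨fun w => ?_, fun w hw => hfE w ((hV w).1 hw)⟩
    obtain ⟨a, b, rfl, ha, hb⟩ := hsplit w
    have h0 : f a = 0 := by
      show (omega p - 1)⁻¹ • (u z a - a) = 0
      rw [ha, sub_self, smul_zero]
    rw [map_add, h0, zero_add, hfE b hb]
    exact (hV b).2 hb
  have hval : ∀ ν : Λ, ν.1 ⟨z, hzA⟩ = 1 ∨ ν.1 ⟨z, hzA⟩ = omega p := by
    intro ν
    obtain ⟨v, hv, hv0⟩ := (Submodule.ne_bot_iff _).1 ν.2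
    have hvz : u z v = ν.1 ⟨z, hzA⟩ • v := (mem_joint u ga).1 hv ⟨z, hzA⟩
    obtain ⟨a, b, rfl, ha, hb⟩ := hsplit v
    by_contra! hne
    refine hv0 ((inner_self_eq_zero (𝕜 := ℂ)).1 ?_)
    rw [inner_add_right, inner_eq_zero_of_ne u hu hvz (b := 1) (w := a) (by rw [ha, one_smul]) hne.1,
      inner_eq_zero_of_ne u hu hvz hb hne.2, add_zero]
  have hpe : ∃ k : ℕ, p = k * e := by
    refine ⟨(Finset.univ.filter fun ν : Λ => ν.1 ⟨z, hzA⟩ = omega p).card, ?_⟩
    have hf : ∀ ν : Λ, ∀ v ∈ joint u ga ν.1,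
        f v = ((omega p - 1)⁻¹ * (ν.1 ⟨z, hzA⟩ - 1)) • v := fun ν v hv => by
      have hvz : u z v = ν.1 ⟨z, hzA⟩ • v := (mem_joint u ga).1 hv ⟨z, hzA⟩
      show (omega p - 1)⁻¹ • (u z v - v) = _
      rw [hvz, mul_smul, sub_smul, one_smul]
    have h := LinearMap.trace_eq_sum_trace_restrict hint (f := f)
      (fun ν v hv => by rw [SetLike.mem_coe, hf ν v hv]; exact Submodule.smul_mem _ _ hv)
    rw [hproj.trace, hVdim, Finset.sum_congr rfl fun ν _ => hscal 1 ν _ _ (hf ν)] at h
    have h2 : ∀ ν : Λ, (omega p - 1)⁻¹ * (ν.1 ⟨z, hzA⟩ - 1) * (e : ℂ) =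
        if ν.1 ⟨z, hzA⟩ = omega p then (e : ℂ) else 0 := fun ν => by
      rcases hval ν with h' | h' <;> rw [h']
      · rw [if_neg (Ne.symm hω1)]; simp
      · rw [if_pos rfl, inv_mul_cancel₀ (sub_ne_zero.2 hω1), one_mul]
    rw [Finset.sum_congr rfl fun ν _ => h2 ν, ← Finset.sum_filter, Finset.sum_const,
      nsmul_eq_mul] at h
    exact_mod_cast h
  have he1 : e = 1 := by
    obtain ⟨k, hk⟩ := hpe
    rcases (Nat.dvd_prime hp).1 (Dvd.intro_left k hk.symm : e ∣ p) with h | h
    · exact h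
    · exfalso
      rw [h] at hn
      rcases hc : Fintype.card Λ with _ | _ | c <;> rw [hc] at hn
      · omega
      · omega
      · nlinarith
  -- the monomial action
  let φ : G →* Equiv.Perm Λ :=
    MonoidHom.mk' (fun g =>
      { toFun := fun ν => ⟨T g ν.1, hTne g ν⟩
        invFun := fun ν => ⟨T g⁻¹ ν.1, hTne g⁻¹ ν⟩
        left_inv := fun ν => Subtype.ext (by
          show T g⁻¹ (T g ν.1) = ν.1
          rw [← hTm, inv_mul_cancel, hT1])
        right_inv := fun ν => Subtype.ext (by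
          show T g (T g⁻¹ ν.1) = ν.1
          rw [← hTm, mul_inv_cancel, hT1]) })
      fun g h => Equiv.ext fun ν => Subtype.ext (hTm g h ν.1)
  set D := φ.ker with hD
  have hfix : ∀ d ∈ D, ∀ ν : Λ, ∀ v ∈ joint u ga ν.1, ∃ c : ℂ, u d v = c • v := by
    intro d hd ν v hv
    have h1 : T d ν.1 = ν.1 :=
      congrArg Subtype.val (Equiv.congr_fun (MonoidHom.mem_ker.1 hd) ν)
    by_cases hv0 : v = 0
    · exact ⟨0, by simp [hv0]⟩
    obtain ⟨w, hw0, hw⟩ := finrank_eq_one_iff'.1 ((he ν).trans he1)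
    obtain ⟨c₁, hc₁⟩ := hw ⟨v, hv⟩
    obtain ⟨c₂, hc₂⟩ := hw ⟨u d v, h1 ▸ hmove d ν.1 v hv⟩
    have hc₁0 : c₁ ≠ 0 := fun h => hv0 (by
      rw [h, zero_smul] at hc₁
      exact (congrArg Subtype.val hc₁).symm)
    refine ⟨c₂ * c₁⁻¹, ?_⟩
    have e1 : (c₁ : ℂ) • (w : W) = v := congrArg Subtype.val hc₁
    have e2 : (c₂ : ℂ) • (w : W) = u d v := congrArg Subtype.val hc₂
    rw [← e2, ← e1, smul_smul, mul_assoc, inv_mul_cancel₀ hc₁0, mul_one]
  have hDc : ∀ d d' : D, d * d' = d' * d := by
    intro d d'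
    have heq' : op u ((d : G) * d') = op u ((d' : G) * d) := by
      refine op_eq_of_joint u ga hAc _ _ fun ν v hv => ?_
      by_cases hν : joint u ga ν = ⊥
      · rw [hν, Submodule.mem_bot] at hv; simp [hv]
      obtain ⟨c, hc⟩ := hfix d d.2 ⟨ν, hν⟩ v hv
      obtain ⟨c', hc'⟩ := hfix d' d'.2 ⟨ν, hν⟩ v hv
      show u ((d : G) * d') v = u ((d' : G) * d) v
      rw [apply_mul, apply_mul, hc, hc', map_smul, map_smul, hc, hc', smul_comm]
    refine Subtype.ext ?_
    have h : u (((d' : G) * d)⁻¹ * ((d : G) * d')) = 1 := by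
      refine ContinuousLinearMap.ext fun w => ?_
      rw [apply_mul, show u ((d : G) * d') w = u ((d' : G) * d) w from LinearMap.congr_fun heq' w,
        ← apply_mul, inv_mul_cancel, map_one]
    exact (inv_mul_eq_one.1 (hinj _ h)).symm
  intro hsq
  obtain ⟨R⟩ : Nonempty (Sylow p D) := inferInstance
  haveI : (R : Subgroup D).Normal := ⟨fun x hx g => by rwa [hDc g x, mul_inv_cancel_right]⟩
  haveI : (R : Subgroup D).Characteristic := R.characteristic_of_normal inferInstance
  haveI : ((R : Subgroup D).map D.subtype).Normal := inferInstance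
  have hRle : (R : Subgroup D).map D.subtype ≤ Cfsg.pCore p G :=
    le_sSup ⟨inferInstance, R.isPGroup'.map _⟩
  have hRcard : Nat.card ((R : Subgroup D).map D.subtype) = p ^ (Nat.card D).factorization p := by
    rw [Subgroup.card_subtype, R.card_eq_multiplicity]
  have h1 : p ^ (Nat.card D).factorization p * p ^ 2 ∣ Nat.card D * D.index := by
    rw [D.card_mul_index, ← (Cfsg.pCore p G).card_mul_index, ← hRcard]
    exact Nat.mul_dvd_mul (Subgroup.card_dvd_of_le hRle) hsq
  have h2 : p ^ 2 ∣ D.index := by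
    have h1' : p ^ (Nat.card D).factorization p * p ^ 2 ∣ p ^ (Nat.card D).factorization p *
        (Nat.card D / p ^ (Nat.card D).factorization p * D.index) := by
      rwa [← mul_assoc, Nat.ordProj_mul_ordCompl_eq_self]
    exact ((Nat.Coprime.pow_left 2 ((Nat.coprime_ordCompl hp Nat.card_pos.ne'))).dvd_of_dvd_mul_left
      (Nat.dvd_of_mul_dvd_mul_left (pow_pos hp.pos _) h1'))
  refine not_sq_dvd_factorial hp n hn2 (h2.trans ?_)
  rw [hD, Subgroup.index_ker]
  refine (Subgroup.card_subgroup_dvd_card φ.range).trans ?_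
  rw [Nat.card_eq_fintype_card, Fintype.card_perm, hn, he1, mul_one]

end CfsgLib.Blichfeldt
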