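import Cfsg.Agent.Blichfeldt.Basic

/-!
# The abelian Hall subgroup for large primes of a linear group

Induction on the group order: the centralizer of a noncentral element of a large prime order
contains the Hall subgroup once every two large primes share an abelian subgroup containing
Sylow subgroups for both, and the latter comes from the existence of commuting elements.
-/

set_option autoImplicit false

open Subgroup

namespace CfsgLib.Blichfeldt

universe u

variable {G : Type u} [Group G] [Finite G]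

/-- A subgroup of index prime to `p` contains a Sylow `p`-subgroup. -/
theorem exists_sylow_le {p : ℕ} [hp : Fact p.Prime] {H : Subgroup G} (h : ¬ p ∣ H.index) :
    ∃ P : Sylow p G, (P : Subgroup G) ≤ H := by
  obtain ⟨S⟩ : Nonempty (Sylow p H) := inferInstance
  refine ⟨Sylow.ofCard ((S : Subgroup H).map H.subtype) ?_, map_subtype_le _⟩
  rw [card_map_of_injective H.subtype_injective, S.card_eq_multiplicity, ← card_mul_index H,
    Nat.factorization_mul Nat.card_pos.ne' index_ne_zero_of_finite, Finsupp.add_apply,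
    Nat.factorization_eq_zero_of_not_dvd h, add_zero]

/-- A subgroup containing a Sylow `p`-subgroup has index prime to `p`. -/
theorem not_dvd_index {p : ℕ} [Fact p.Prime] (P : Sylow p G) {H : Subgroup G}
    (h : (P : Subgroup G) ≤ H) : ¬ p ∣ H.index :=
  fun hd => P.not_dvd_index (hd.trans (index_dvd_of_le h))

theorem centralizer_top_of_center {x : G} (hx : x ∈ center G) :
    centralizer ({x} : Set G) = ⊤ :=
  eq_top_iff.2 fun g _ => mem_centralizer_singleton_iff.2 (mem_center_iff.1 hx g)

theorem centralizer_ne_top {x : G} (hx : x ∉ center G) : centralizer ({x} : Set G) ≠ ⊤ :=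
  fun h => hx (mem_center_iff.2 fun g =>
    mem_centralizer_singleton_iff.1 (h.ge (mem_top g)))

theorem le_centralizer_of_comm {H : Subgroup G} (hH : IsMulCommutative H) {x : G} (hx : x ∈ H) :
    H ≤ centralizer ({x} : Set G) :=
  fun _ hh => mem_centralizer_singleton_iff.2
    (LocalEvenBasic.commute_of_mem_isMulCommutative hH hh hx)

theorem orderOf_dvd_card {H : Subgroup G} {x : G} (hx : x ∈ H) : orderOf x ∣ Nat.card H := by
  rw [← Subgroup.orderOf_mk x hx]
  exact orderOf_dvd_natCard _

/-- The main induction step for a pair of large primes: an abelian subgroup with both full parts. -/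
theorem exists_pair {χ : G → ℂ} (hχ : Cfsg.IsCharacter G χ)
    (hfaith : ∀ g : G, χ g = χ 1 → g = 1) {n : ℕ} (hn : χ 1 = n)
    (sub : ∀ H : Subgroup G, H ≠ ⊤ → ∃ A ≤ H, IsMulCommutative A ∧
      ∀ q : ℕ, q.Prime → n + 1 < q → ¬ q ∣ A.relIndex H)
    {p q : ℕ} [hp : Fact p.Prime] [hq : Fact q.Prime] (hpq : p ≠ q) (hnp : n + 1 < p)
    (hnq : n + 1 < q) : ∃ B : Subgroup G, IsMulCommutative B ∧ ¬ p ∣ B.index ∧ ¬ q ∣ B.index := by
  -- the case of a central element of one of the two orders
  have central : ∀ {r s : ℕ}, r.Prime → s.Prime → n + 1 < r → n + 1 < s → r ≠ s →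
      (∃ z : G, z ∈ center G ∧ orderOf z = r) →
      ∃ B : Subgroup G, IsMulCommutative B ∧ ¬ r ∣ B.index ∧ ¬ s ∣ B.index := by
    intro r s hr hs hnr hns hrs ⟨z, hzc, hzr⟩
    have := Fact.mk hr
    have := Fact.mk hs
    obtain ⟨P⟩ : Nonempty (Sylow r G) := inferInstance
    have hPc := isMulCommutative_isPGroup hχ hfaith hn hnr P.isPGroup'
    letI : CommGroup (P : Subgroup G) :=
      { (inferInstance : Group (P : Subgroup G)) with
        mul_comm := fun a b => Subtype.ext
          (LocalEvenBasic.commute_of_mem_isMulCommutative hPc a.2 b.2) }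
    set f : G →* (P : Subgroup G) := MonoidHom.transfer (MonoidHom.id _)
    have key : ∀ (k : ℕ) (g₀ : G), g₀⁻¹ * z ^ k * g₀ ∈ (P : Subgroup G) →
        g₀⁻¹ * z ^ k * g₀ = z ^ k := fun k g₀ _ => by
      rw [mul_assoc, ← mem_center_iff.1 (pow_mem hzc k) g₀, inv_mul_cancel_left]
    have hfz : z ∉ f.ker := fun hf => by
      rw [MonoidHom.mem_ker, MonoidHom.transfer_eq_pow _ z key] at hf
      have h1 : z ^ (P : Subgroup G).index = 1 := congrArg Subtype.val hf
      have h2 := orderOf_dvd_of_pow_eq_one h1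
      rw [hzr] at h2
      exact P.not_dvd_index h2
    set M := f.ker
    have hMtop : M ≠ ⊤ := fun h => hfz (h.ge (mem_top z))
    have hMindex : ¬ s ∣ M.index := fun h => by
      have h1 : s ∣ Nat.card (P : Subgroup G) := by
        rw [Subgroup.index_ker] at h
        exact h.trans (card_subgroup_dvd_card _)
      rw [P.card_eq_multiplicity] at h1
      exact hrs ((Nat.prime_dvd_prime_iff_eq hs hr).1 (hs.dvd_of_dvd_pow h1)).symm
    obtain ⟨A, hAM, hAc, hA⟩ := sub M hMtop
    have hAs : ¬ s ∣ A.index := by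
      rw [← relIndex_mul_index hAM]
      exact fun h => (hs.dvd_mul.1 h).elim (hA s hs hns) hMindex
    obtain ⟨Q, hQA⟩ := exists_sylow_le hAs
    set N := normalizer ((Q : Subgroup G) : Set G)
    have hAN : A ≤ N ⊓ M := by
      refine le_inf ?_ hAM
      exact (le_centralizer_iff.1 (hQA.trans (fun a ha => mem_centralizer_iff.2 fun b hb =>
        LocalEvenBasic.commute_of_mem_isMulCommutative hAc hb ha))).trans
        (centralizer_le_normalizer _)
    have hNM : N ⊔ M = ⊤ := by
      have h := Sylow.normalizer_sup_eq_top (Q.subtype (hQA.trans hAM))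
      rwa [Sylow.coe_subtype, map_subgroupOf_eq_of_le (hQA.trans hAM)] at h
    have hNr : ¬ r ∣ N.index := by
      intro h
      refine hA r hr hnr (h.trans ?_)
      refine dvd_trans ?_ (relIndex_dvd_of_le_left M hAN)
      have h1 : M.relIndex N = M.index := by
        rw [← relIndex_top_right, ← hNM, relIndex_sup_right]
      have h2 := card_mul_index N
      have h3 := card_mul_index M
      have h4 : Nat.card ↥(N ⊓ M) * M.index = Nat.card N := by
        rw [← h1, ← inf_relIndex_right M N, ← relIndex_bot_left, inf_comm M N,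
          relIndex_mul_relIndex _ _ _ bot_le inf_le_left, relIndex_bot_left]
      have h5 : Nat.card ↥(N ⊓ M) * (N ⊓ M).relIndex M = Nat.card M := by
        rw [← relIndex_bot_left, relIndex_mul_relIndex _ _ _ bot_le inf_le_right, relIndex_bot_left]
      refine dvd_of_eq (Nat.eq_of_mul_eq_mul_left (Nat.card_pos (α := N)) ?_)
      rw [h2, ← h3, ← h5, ← h4]
      ring
    obtain ⟨P', hP'⟩ := exists_sylow_le hNr
    exact ⟨_, isMulCommutative_sup_pgroups hχ hfaith hn hnr hns P'.isPGroup' Q.isPGroup' hP',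
      not_dvd_index P' le_sup_left, not_dvd_index Q le_sup_right⟩
  by_cases hdp : p ∣ Nat.card G
  swap
  · obtain ⟨Q⟩ : Nonempty (Sylow q G) := inferInstance
    exact ⟨Q, isMulCommutative_isPGroup hχ hfaith hn hnq Q.isPGroup',
      fun h => hdp (h.trans (index_dvd_card _)), Q.not_dvd_index⟩
  by_cases hdq : q ∣ Nat.card G
  swap
  · obtain ⟨P⟩ : Nonempty (Sylow p G) := inferInstance
    exact ⟨P, isMulCommutative_isPGroup hχ hfaith hn hnp P.isPGroup',
      P.not_dvd_index, fun h => hdq (h.trans (index_dvd_card _))⟩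
  by_cases hzp : ∃ z : G, z ∈ center G ∧ orderOf z = p
  · exact central hp.out hq.out hnp hnq hpq hzp
  by_cases hzq : ∃ z : G, z ∈ center G ∧ orderOf z = q
  · obtain ⟨B, h1, h2, h3⟩ := central hq.out hp.out hnq hnp hpq.symm hzq
    exact ⟨B, h1, h3, h2⟩
  -- commuting elements of the two orders
  obtain ⟨x, y, hx, hy, hxy⟩ : ∃ x y : G, orderOf x = p ∧ orderOf y = q ∧ Commute x y := by
    obtain ⟨x, hx⟩ := exists_prime_orderOf_dvd_card' p hdp
    obtain ⟨ψ, hψ, ⟨d, hd, hdn⟩, hψx⟩ := exists_constituent_ne hχ hfaith hn (x := x)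
      fun h => hp.out.ne_one (by rw [← hx, h, orderOf_one])
    obtain ⟨m, ρ, hρ, hρψ⟩ := hψ
    subst hρψ
    let K : Subgroup G := (MonoidHom.ker ρ : Subgroup G)
    have hK : ∀ g, g ∈ K ↔ ρ.character g = ρ.character 1 := fun g => by
      rw [Representation.char_one, Characters.char_eq_finrank_iff]
      exact MonoidHom.mem_ker
    by_cases hqK : q ∣ Nat.card K
    · obtain ⟨Q⟩ : Nonempty (Sylow q K) := inferInstance
      set Q' := (Q : Subgroup K).map K.subtype
      have hNK := Sylow.normalizer_sup_eq_top Q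
      set N := normalizer (Q' : Set G)
      obtain ⟨a, ha, k, hk, hak⟩ := (mem_sup_of_normal_right (t := K)).1 (hNK.ge (mem_top x))
      have hpa : p ∣ orderOf a := by
        have hne : QuotientGroup.mk' K x ≠ 1 := fun h =>
          hψx ((hK x).1 ((QuotientGroup.eq_one_iff x).1 h))
        have he : QuotientGroup.mk' K a = QuotientGroup.mk' K x := by
          rw [← hak, map_mul, show QuotientGroup.mk' K k = 1 from (QuotientGroup.eq_one_iff k).2 hk,
            mul_one]
        have := orderOf_map_dvd (QuotientGroup.mk' K) a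
        rw [he, orderOf_eq_prime (G := G ⧸ K) (p := p) (by
          rw [← map_pow, ← hx, pow_orderOf_eq_one, map_one]) hne] at this
        exact this
      have hQ1 : q ∣ Nat.card Q' := by
        rw [card_map_of_injective K.subtype_injective]
        exact Q.dvd_card_of_dvd_card hqK
      obtain ⟨y, hy⟩ := exists_prime_orderOf_dvd_card' (G := Q') q hQ1
      set x' := a ^ (orderOf a / p)
      have hx' : orderOf x' = p := orderOf_pow_orderOf_div (orderOf_pos a).ne' hpa
      have hc := isMulCommutative_sup_pgroups hχ hfaith hn hnp hnq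
        (P := zpowers x') (Q := Q') (IsPGroup.of_card (n := 1) (by rw [Nat.card_zpowers, hx', pow_one]))
        (Q.isPGroup'.map _) ((zpowers_le.2 (pow_mem ha _)))
      exact ⟨x', y, hx', by rw [Subgroup.orderOf_coe]; exact hy,
        LocalEvenBasic.commute_of_mem_isMulCommutative hc (mem_sup_left (mem_zpowers x'))
          (mem_sup_right y.2)⟩
    · obtain ⟨y, hy⟩ := exists_prime_orderOf_dvd_card' q hdq
      obtain ⟨g, hgp, hgq⟩ := exists_orderOf_dvd ⟨m, ρ, hρ, rfl⟩ hd hp.out hq.out
        (by omega) (by omega) hx hy hψx fun h => hqK (hy ▸ orderOf_dvd_card ((hK y).2 h))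
      exact ⟨g ^ (orderOf g / p), g ^ (orderOf g / q), orderOf_pow_orderOf_div (orderOf_pos g).ne' hgp,
        orderOf_pow_orderOf_div (orderOf_pos g).ne' hgq, Commute.pow_pow_self g _ _⟩
  have hxc : x ∉ center G := fun h => hzp ⟨x, h, hx⟩
  obtain ⟨A, hAC, hAc, hA⟩ := sub _ (centralizer_ne_top hxc)
  have hAp : ¬ p ∣ A.index := by
    obtain ⟨P, hP⟩ := (IsPGroup.of_card (p := p) (n := 1)
      (by rw [Nat.card_zpowers, hx, pow_one] : Nat.card (zpowers x) = p ^ 1)).exists_le_sylow
    have hPC : ¬ p ∣ (centralizer ({x} : Set G)).index := not_dvd_index P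
      (le_centralizer_of_comm (isMulCommutative_isPGroup hχ hfaith hn hnp P.isPGroup')
        (hP (mem_zpowers x)))
    rw [← relIndex_mul_index hAC]
    exact fun h => (hp.out.dvd_mul.1 h).elim (hA p hp.out hnp) hPC
  obtain ⟨y₁, hy₁⟩ : ∃ y₁ : A, orderOf y₁ = q := by
    refine exists_prime_orderOf_dvd_card' q ?_
    have h1 : q ∣ Nat.card ↥(centralizer ({x} : Set G)) :=
      hy ▸ orderOf_dvd_card (mem_centralizer_singleton_iff.2 hxy.symm.eq)
    rw [← relIndex_bot_left, ← relIndex_mul_relIndex _ _ _ bot_le hAC, relIndex_bot_left] at h1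
    exact (hq.out.dvd_mul.1 h1).resolve_right (hA q hq.out hnq)
  have hy₁' : orderOf (y₁ : G) = q := by rw [Subgroup.orderOf_coe]; exact hy₁
  have hy₁c : (y₁ : G) ∉ center G := fun h => hzq ⟨y₁, h, hy₁'⟩
  obtain ⟨A₂, hA₂C, hA₂c, hA₂⟩ := sub _ (centralizer_ne_top hy₁c)
  refine ⟨A₂, hA₂c, ?_, ?_⟩
  · rw [← relIndex_mul_index hA₂C]
    exact fun h => (hp.out.dvd_mul.1 h).elim (hA₂ p hp.out hnp) fun h' =>
      hAp (h'.trans (index_dvd_of_le (le_centralizer_of_comm hAc y₁.2)))
  · obtain ⟨Q, hQ⟩ := (IsPGroup.of_card (p := q) (n := 1)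
      (by rw [Nat.card_zpowers, hy₁', pow_one] : Nat.card (zpowers (y₁ : G)) = q ^ 1)).exists_le_sylow
    rw [← relIndex_mul_index hA₂C]
    exact fun h => (hq.out.dvd_mul.1 h).elim (hA₂ q hq.out hnq) (not_dvd_index Q
      (le_centralizer_of_comm (isMulCommutative_isPGroup hχ hfaith hn hnq Q.isPGroup')
        (hQ (mem_zpowers (y₁ : G)))))

/-- The abelian subgroup carrying all large prime parts, by induction on the order. -/
theorem exists_abelian_full_aux (n : ℕ) : ∀ (m : ℕ) (G : Type u) [Group G] [Finite G],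
    Nat.card G ≤ m → ∀ χ : G → ℂ, Cfsg.IsCharacter G χ → (∀ g : G, χ g = χ 1 → g = 1) →
      χ 1 = n → ∃ A : Subgroup G, IsMulCommutative A ∧
        ∀ q : ℕ, q.Prime → n + 1 < q → ¬ q ∣ A.index := by
  intro m
  induction m with
  | zero => intro G _ _ h; exact absurd (Nat.card_pos (α := G)) (by omega)
  | succ m ih =>
    intro G _ _ hm χ hχ hfaith hn
    have sub : ∀ H : Subgroup G, H ≠ ⊤ → ∃ A ≤ H, IsMulCommutative A ∧
        ∀ q : ℕ, q.Prime → n + 1 < q → ¬ q ∣ A.relIndex H := by
      intro H hH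
      have hlt : Nat.card H < Nat.card G := lt_of_le_of_ne (Subgroup.card_le_card_group H)
        fun h => hH (eq_top_of_card_eq H h)
      obtain ⟨A, hAc, hA⟩ := ih H (by omega) (fun h : H => χ h)
        (Characters.isCharacter_restrict H hχ) (faithful_restrict hfaith H) hn
      refine ⟨A.map H.subtype, map_subtype_le _, inferInstance, fun q hq hnq => ?_⟩
      rw [relIndex, show (A.map H.subtype).subgroupOf H = A from
        comap_map_eq_self_of_injective H.subtype_injective A]
      exact hA q hq hnq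
    by_cases hall : ∀ (p : ℕ), p.Prime → n + 1 < p →
        ∀ x : G, (∃ k : ℕ, orderOf x = p ^ k) → x ∈ center G
    · refine ⟨center G, inferInstance, fun q hq hnq => ?_⟩
      have := Fact.mk hq
      obtain ⟨P⟩ : Nonempty (Sylow q G) := inferInstance
      refine not_dvd_index P fun x hx => hall q hq hnq x ?_
      obtain ⟨k, hk⟩ := IsPGroup.iff_orderOf.1 P.isPGroup' ⟨x, hx⟩
      exact ⟨k, by rw [← hk, Subgroup.orderOf_mk]⟩
    push Not at hall
    obtain ⟨p, hp, hnp, x, ⟨k, hk⟩, hxc⟩ := hall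
    have := Fact.mk hp
    obtain ⟨P, hP⟩ := (IsPGroup.of_card (p := p) (n := k)
      (by rw [Nat.card_zpowers, hk] : Nat.card (zpowers x) = p ^ k)).exists_le_sylow
    have hxP : x ∈ (P : Subgroup G) := hP (mem_zpowers x)
    obtain ⟨A, hAC, hAc, hA⟩ := sub _ (centralizer_ne_top hxc)
    refine ⟨A, hAc, fun q hq hnq => ?_⟩
    have hC : ¬ q ∣ (centralizer ({x} : Set G)).index := by
      have := Fact.mk hq
      rcases eq_or_ne p q with rfl | hpq
      · exact not_dvd_index P
          (le_centralizer_of_comm (isMulCommutative_isPGroup hχ hfaith hn hnp P.isPGroup') hxP)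
      obtain ⟨B, hBc, hBp, hBq⟩ := exists_pair hχ hfaith hn sub hpq hnp hnq
      obtain ⟨P', hP'⟩ := exists_sylow_le hBp
      obtain ⟨g, hg⟩ := MulAction.exists_smul_eq G P' P
      have hPB : (P : Subgroup G) ≤ B.map (MulAut.conj g).toMonoidHom := by
        rw [← hg]
        rintro _ ⟨y, hy, rfl⟩
        exact ⟨y, hP' hy, rfl⟩
      have hBq' : ¬ q ∣ (B.map (MulAut.conj g).toMonoidHom).index := by
        rwa [index_map_of_bijective (MulAut.conj g).bijective]
      exact fun h => hBq' (h.trans (index_dvd_of_le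
        (le_centralizer_of_comm inferInstance (hPB hxP))))
    rw [← relIndex_mul_index hAC]
    exact fun h => (hq.dvd_mul.1 h).elim (hA q hq hnq) hC

/-- **Blichfeldt**: the primes greater than `n + 1` have an abelian Hall subgroup in a finite
linear group of degree `n`. -/
theorem exists_abelian_hall {G : Type u} [Group G] [Finite G] {χ : G → ℂ}
    (hχ : Cfsg.IsCharacter G χ) (hfaith : ∀ g : G, χ g = χ 1 → g = 1) {n : ℕ} (hn : χ 1 = n) :
    ∃ A : Subgroup G, IsMulCommutative A ∧ (∀ q : ℕ, q.Prime → q ∣ Nat.card A → n + 1 < q) ∧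
      ∀ q : ℕ, q.Prime → q ∣ A.index → q ≤ n + 1 := by
  obtain ⟨A, hAc, hA⟩ := exists_abelian_full_aux n (Nat.card G) G le_rfl χ hχ hfaith hn
  let B : Subgroup G :=
    { carrier := {a | a ∈ A ∧ ∀ q : ℕ, q.Prime → q ∣ orderOf a → n + 1 < q}
      one_mem' := ⟨one_mem A, fun q hq h => absurd (Nat.dvd_one.1 (orderOf_one (G := G) ▸ h)) hq.ne_one⟩
      mul_mem' := fun {a b} ha hb => ⟨mul_mem ha.1 hb.1, fun q hq h => by
        have hc : Commute a b := LocalEvenBasic.commute_of_mem_isMulCommutative hAc ha.1 hb.1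
        have h1 := h.trans (hc.orderOf_mul_dvd_lcm.trans (Nat.lcm_dvd_mul _ _))
        exact (hq.dvd_mul.1 h1).elim (ha.2 q hq) (hb.2 q hq)⟩
      inv_mem' := fun {a} ha => ⟨inv_mem ha.1, fun q hq h => ha.2 q hq (orderOf_inv a ▸ h)⟩ }
  refine ⟨B, ⟨⟨fun a b => Subtype.ext
    (LocalEvenBasic.commute_of_mem_isMulCommutative hAc a.2.1 b.2.1)⟩⟩, fun q hq h => ?_,
    fun q hq h => ?_⟩
  · have := Fact.mk hq
    obtain ⟨b, hb⟩ := exists_prime_orderOf_dvd_card' (G := B) q h
    exact b.2.2 q hq (by rw [Subgroup.orderOf_coe, hb])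
  · by_contra hlt
    have := Fact.mk hq
    obtain ⟨P, hP⟩ := exists_sylow_le (hA q hq (by omega))
    refine not_dvd_index P (H := B) (fun x hx => ⟨hP hx, fun r hr hrx => ?_⟩) h
    obtain ⟨k, hk⟩ := IsPGroup.iff_orderOf.1 P.isPGroup' ⟨x, hx⟩
    rw [Subgroup.orderOf_mk] at hk
    rw [(Nat.prime_dvd_prime_iff_eq hr hq).1 (hr.dvd_of_dvd_pow (hk ▸ hrx))]
    omega

end CfsgLib.Blichfeldt
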