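import Cfsg.Agent.Blichfeldt.Hall
import Cfsg.Agent.Solvable.Nilpotent
import Cfsg.Agent.GaloisAverage.CoprimeModule

/-!
# The explicit bound in Jordan's theorem

* `exists_abelian_index_dvd_factorial` : a nilpotent linear group of degree `n` has an abelian
  subgroup of index dividing `n!`.
* `index_le_of_abelian_bound` : a normal subgroup meeting every abelian subgroup in index at most
  `c` has index at most `n! * c ^ (π(n + 1) + 1)` in a linear group of degree `n`.
-/

set_option autoImplicit false

open Subgroup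

namespace CfsgLib.Blichfeldt

open CfsgLib.Characters

universe u

/-- A nilpotent group with a faithful character of degree `n` has an abelian subgroup of index
dividing `n!`: a maximal abelian normal subgroup is the kernel of the action on its constituents. -/
theorem exists_abelian_index_dvd_factorial {P : Type u} [Group P] [Finite P] [Group.IsNilpotent P]
    {χ : P → ℂ} (hχ : Cfsg.IsCharacter P χ) (hfaith : ∀ g : P, χ g = χ 1 → g = 1) {n : ℕ}
    (hn : χ 1 = n) : ∃ A : Subgroup P, IsMulCommutative A ∧ A.index ∣ n.factorial := by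
  classical
  haveI := Fintype.ofFinite P
  obtain ⟨A, ⟨hAn, hAc⟩, hAmax⟩ := Set.Finite.exists_maximal
    (Set.toFinite {M : Subgroup P | M.Normal ∧ IsMulCommutative M})
    ⟨⊥, inferInstance, inferInstance⟩
  haveI := hAn
  haveI := hAc
  have hCA : centralizer (A : Set P) = A := Solvable.centralizer_eq_of_maximal_abelian_normal
    fun M h1 h2 h3 => le_antisymm (hAmax ⟨h1, h2⟩ h3) h3
  set θ : A → ℂ := fun a => χ a
  have hθ : Cfsg.IsCharacter A θ := isCharacter_restrict A hχ
  obtain ⟨m, hm⟩ := exists_nat_coeff hθ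
  let S := {ψ : Cfsg.IrrCharacter A // Cfsg.classInner θ (ψ : A → ℂ) ≠ 0}
  have hinner : ∀ ψ : Cfsg.IrrCharacter A, Cfsg.classInner θ (ψ : A → ℂ) = m ψ := fun ψ => by
    rw [hm]; exact classInner_irr_coeff _ ψ
  have hirr : ∀ (g : P) (ψ : Cfsg.IrrCharacter A),
      Cfsg.IsIrrCharacter A (fun a => (ψ : A → ℂ) ((MulAut.conjNormal g : MulAut A) a)) :=
    fun g ψ => isIrr_comp (MulAut.conjNormal g : MulAut A).toMonoidHom
      (MulAut.conjNormal g : MulAut A).surjective ψ.2
  have hinv : ∀ (g : P) (ψ : Cfsg.IrrCharacter A),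
      Cfsg.classInner θ (fun a => (ψ : A → ℂ) ((MulAut.conjNormal g : MulAut A) a)) =
        Cfsg.classInner θ (ψ : A → ℂ) := by
    intro g ψ
    simp only [Cfsg.classInner]
    congr 1
    refine Fintype.sum_equiv (MulAut.conjNormal g : MulAut A).toEquiv _ _ fun a => ?_
    simp only [θ, MulEquiv.toEquiv_eq_coe, MulEquiv.coe_toEquiv, MulAut.conjNormal_apply]
    rw [isClassFunction_of_isCharacter hχ (a : P) g]
  let act : P → S → S := fun g ψ => ⟨⟨_, hirr g⁻¹ ψ.1⟩, by rw [hinv]; exact ψ.2⟩
  letI : MulAction P S :=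
    { smul := act
      one_smul := fun ψ => Subtype.ext (Subtype.ext (funext fun a => by
        show (ψ.1 : A → ℂ) ((MulAut.conjNormal (1 : P)⁻¹ : MulAut A) a) = _
        simp))
      mul_smul := fun g h ψ => Subtype.ext (Subtype.ext (funext fun a => by
        show (ψ.1 : A → ℂ) ((MulAut.conjNormal (g * h)⁻¹ : MulAut A) a) =
          (ψ.1 : A → ℂ) ((MulAut.conjNormal h⁻¹ : MulAut A) ((MulAut.conjNormal g⁻¹ : MulAut A) a))
        rw [mul_inv_rev, map_mul, MulAut.mul_apply])) }
  set f := MulAction.toPermHom P S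
  have hlin : ∀ ψ : Cfsg.IrrCharacter A, ∃ l : A →* ℂˣ, (ψ : A → ℂ) = fun a => (l a : ℂ) :=
    fun ψ => exists_hom_of_degree_one (isCharacter_of_isIrr ψ.2)
      (GaloisAverage.irr_one_eq_one ψ.2)
  have hker : f.ker ≤ A := by
    intro g hg
    rw [← hCA, mem_centralizer_iff]
    intro a ha
    have hfix : ∀ ψ : S, g • ψ = ψ := fun ψ => Equiv.ext_iff.1 (MonoidHom.mem_ker.1 hg) ψ
    set c : A := (MulAut.conjNormal g⁻¹ : MulAut A) ⟨a, ha⟩ * ⟨a, ha⟩⁻¹
    have hc : (c : P) = 1 := by
      refine hfaith c ?_
      show θ c = θ 1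
      rw [hm]
      simp only [Finset.sum_apply, Pi.smul_apply, smul_eq_mul]
      refine Finset.sum_congr rfl fun ψ _ => ?_
      rcases eq_or_ne (m ψ) 0 with h0 | h0
      · simp [h0]
      congr 1
      obtain ⟨l, hl⟩ := hlin ψ
      have h1 := congrFun (congrArg (fun φ : S => (φ.1 : A → ℂ))
        (hfix ⟨ψ, by rw [hinner]; exact_mod_cast h0⟩)) ⟨a, ha⟩
      change (ψ : A → ℂ) ((MulAut.conjNormal g⁻¹ : MulAut A) ⟨a, ha⟩) = (ψ : A → ℂ) ⟨a, ha⟩ at h1
      rw [hl] at h1 ⊢
      simp only [c, map_mul, map_inv, map_one, Units.val_one]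
      have h2 := Units.val_inj.1 h1
      simp only [map_inv] at h2 ⊢
      rw [h2, mul_inv_cancel, Units.val_one]
    simp only [c, Subgroup.coe_mul, Subgroup.coe_inv, MulAut.conjNormal_apply, inv_inv,
      mul_inv_eq_one] at hc
    calc a * g = g * (g⁻¹ * a * g) := by group
      _ = g * a := by rw [hc]
  have hS : Nat.card S ≤ n := by
    choose d hd0 hd using fun ψ : Cfsg.IrrCharacter A => exists_degree_pos ψ.2
    have hsum : n = ∑ ψ : Cfsg.IrrCharacter A, m ψ * d ψ := by
      have := congrFun hm 1
      simp only [θ, Finset.sum_apply, Pi.smul_apply, smul_eq_mul, hd, Subgroup.coe_one, hn] at this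
      exact_mod_cast this
    calc Nat.card S = ∑ ψ ∈ Finset.univ.filter (fun ψ : Cfsg.IrrCharacter A =>
          Cfsg.classInner θ (ψ : A → ℂ) ≠ 0), 1 := by
          rw [← Finset.card_eq_sum_ones, Nat.card_eq_fintype_card, Fintype.card_subtype]
      _ ≤ ∑ ψ ∈ Finset.univ.filter (fun ψ : Cfsg.IrrCharacter A =>
          Cfsg.classInner θ (ψ : A → ℂ) ≠ 0), m ψ * d ψ := by
          refine Finset.sum_le_sum fun ψ hψ => Nat.one_le_iff_ne_zero.2 (mul_ne_zero ?_ (hd0 ψ).ne')
          have := (Finset.mem_filter.1 hψ).2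
          rw [hinner] at this
          exact_mod_cast this
      _ ≤ ∑ ψ : Cfsg.IrrCharacter A, m ψ * d ψ :=
          Finset.sum_le_sum_of_subset (Finset.filter_subset _ _)
      _ = n := hsum.symm
  refine ⟨A, hAc, (index_dvd_of_le hker).trans ?_⟩
  rw [Subgroup.index_ker]
  refine (card_subgroup_dvd_card _).trans ?_
  rw [Nat.card_perm]
  exact Nat.factorial_dvd_factorial hS

/-- A product of prime power parts of `r` is at most `r`. -/
theorem prod_ordProj_le {r : ℕ} (hr : r ≠ 0) {s : Finset ℕ} (hs : ∀ p ∈ s, p.Prime) :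
    ∏ p ∈ s, p ^ r.factorization p ≤ r := by
  refine Nat.le_of_dvd (Nat.pos_of_ne_zero hr) (Finset.prod_dvd_of_isRelPrime
    (fun a ha b hb hab => ?_) fun p _ => Nat.ordProj_dvd r p)
  rw [Function.onFun, ← Nat.coprime_iff_isRelPrime]
  exact ((Nat.coprime_primes (hs a ha) (hs b hb)).2 hab).pow _ _

variable {G : Type u} [Group G] [Finite G]

theorem factorization_index_le (A K : Subgroup G) {p : ℕ}
    (hK : (Nat.card K).factorization p = (Nat.card G).factorization p) :
    A.index.factorization p ≤ (A.relIndex K).factorization p := by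
  have h1 : Nat.card ↥(A ⊓ K) * A.relIndex K = Nat.card K := by
    rw [← inf_relIndex_right A K, ← relIndex_bot_left, relIndex_mul_relIndex _ _ _ bot_le inf_le_right,
      relIndex_bot_left]
  have h2 := card_mul_index A
  have e1 := congrArg (fun k => k.factorization p) h1
  have e2 := congrArg (fun k => k.factorization p) h2
  have hr : A.relIndex K ≠ 0 := fun h => by
    rw [h, mul_zero] at h1; exact Nat.card_pos.ne' h1.symm
  simp only [Nat.factorization_mul Nat.card_pos.ne' hr,
    Nat.factorization_mul Nat.card_pos.ne' index_ne_zero_of_finite, Finsupp.add_apply] at e1 e2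
  have h3 : (Nat.card ↥(A ⊓ K)).factorization p ≤ (Nat.card A).factorization p :=
    (Nat.factorization_le_iff_dvd Nat.card_pos.ne' Nat.card_pos.ne').2
      (card_dvd_of_le inf_le_left) p
  omega

/-- The index bound from a normal subgroup which is large in every abelian subgroup. -/
theorem index_le_of_abelian_bound {χ : G → ℂ} (hχ : Cfsg.IsCharacter G χ)
    (hfaith : ∀ g : G, χ g = χ 1 → g = 1) {n : ℕ} (hn : χ 1 = n) (A : Subgroup G) {c : ℕ}
    (hc1 : 1 ≤ c) (hA : ∀ H : Subgroup G, IsMulCommutative H → A.relIndex H ≤ c) :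
    A.index ≤ n.factorial * c ^ (Nat.primeCounting (n + 1) + 1) := by
  classical
  set i := A.index
  have hi : i ≠ 0 := index_ne_zero_of_finite
  set small := i.primeFactors.filter (fun p => p ≤ n + 1)
  set large := i.primeFactors.filter (fun p => ¬ p ≤ n + 1)
  have hsplit : i = (∏ p ∈ small, p ^ i.factorization p) * ∏ p ∈ large, p ^ i.factorization p := by
    rw [Finset.prod_filter_mul_prod_filter_not, ← Nat.support_factorization]
    exact (Nat.prod_factorization_pow_eq_self hi).symm
  have hsmall : ∀ p ∈ small, p ^ i.factorization p ≤ p ^ n.factorial.factorization p * c := by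
    intro p hp
    have hpp := Nat.prime_of_mem_primeFactors (Finset.mem_filter.1 hp).1
    have := Fact.mk hpp
    obtain ⟨P⟩ : Nonempty (Sylow p G) := inferInstance
    haveI : Group.IsNilpotent (P : Subgroup G) := P.isPGroup'.isNilpotent
    obtain ⟨D, hDc, hD⟩ := exists_abelian_index_dvd_factorial
      (isCharacter_restrict (P : Subgroup G) hχ) (faithful_restrict hfaith _) (n := n) hn
    set D' := D.map (P : Subgroup G).subtype
    have hDrel : D'.relIndex (P : Subgroup G) = D.index := by
      rw [relIndex, show D'.subgroupOf (P : Subgroup G) = D from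
        comap_map_eq_self_of_injective (P : Subgroup G).subtype_injective D]
    obtain ⟨j, hj⟩ := P.isPGroup'.index D
    have hjle : p ^ j ≤ p ^ n.factorial.factorization p := by
      refine Nat.pow_le_pow_right hpp.pos ?_
      exact (hpp.pow_dvd_iff_le_factorization n.factorial_ne_zero).1 (hj ▸ hD)
    have hKP : (Nat.card (P : Subgroup G)).factorization p = (Nat.card G).factorization p := by
      rw [P.card_eq_multiplicity, hpp.factorization_pow, Finsupp.single_eq_same]
    have hrne : A.relIndex (P : Subgroup G) ≠ 0 := index_ne_zero_of_finite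
    calc p ^ i.factorization p ≤ p ^ (A.relIndex (P : Subgroup G)).factorization p :=
          Nat.pow_le_pow_right hpp.pos (factorization_index_le A _ hKP)
      _ ≤ A.relIndex (P : Subgroup G) := Nat.le_of_dvd (Nat.pos_of_ne_zero hrne) (Nat.ordProj_dvd _ _)
      _ ≤ (A ⊓ D').relIndex (P : Subgroup G) :=
          Nat.le_of_dvd (Nat.pos_of_ne_zero index_ne_zero_of_finite) (relIndex_dvd_of_le_left _ inf_le_left)
      _ = A.relIndex D' * D'.relIndex (P : Subgroup G) := by
          rw [← inf_relIndex_right A D', relIndex_mul_relIndex _ _ _ inf_le_right (map_subtype_le D)]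
      _ ≤ c * p ^ n.factorial.factorization p := by
          refine Nat.mul_le_mul (hA D' inferInstance) ?_
          rw [hDrel, hj]; exact hjle
      _ = _ := mul_comm _ _
  obtain ⟨H, hHc, -, hHi⟩ := exists_abelian_hall hχ hfaith hn
  have hlarge : ∏ p ∈ large, p ^ i.factorization p ≤ c := by
    refine le_trans (Finset.prod_le_prod' fun p hp => ?_)
      ((prod_ordProj_le (r := A.relIndex H) index_ne_zero_of_finite fun p hp =>
        Nat.prime_of_mem_primeFactors (Finset.mem_filter.1 hp).1).trans (hA H hHc))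
    obtain ⟨hp1, hp2⟩ := Finset.mem_filter.1 hp
    have hpp := Nat.prime_of_mem_primeFactors hp1
    refine Nat.pow_le_pow_right hpp.pos (factorization_index_le A H ?_)
    rw [← card_mul_index H, Nat.factorization_mul Nat.card_pos.ne' index_ne_zero_of_finite,
      Finsupp.add_apply, Nat.factorization_eq_zero_of_not_dvd fun h => hp2 (hHi p hpp h), add_zero]
  have hcard : small.card ≤ Nat.primeCounting (n + 1) := by
    rw [Nat.primeCounting, Nat.primeCounting', Nat.count_eq_card_filter_range]
    refine Finset.card_le_card fun p hp => ?_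
    obtain ⟨hp1, hp2⟩ := Finset.mem_filter.1 hp
    exact Finset.mem_filter.2 ⟨Finset.mem_range.2 (by omega), Nat.prime_of_mem_primeFactors hp1⟩
  calc i = _ := hsplit
    _ ≤ (∏ p ∈ small, p ^ n.factorial.factorization p * c) * c :=
        Nat.mul_le_mul (Finset.prod_le_prod' hsmall) hlarge
    _ = (∏ p ∈ small, p ^ n.factorial.factorization p) * c ^ (small.card + 1) := by
        rw [Finset.prod_mul_distrib, Finset.prod_const, pow_succ, mul_assoc]
    _ ≤ n.factorial * c ^ (Nat.primeCounting (n + 1) + 1) :=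
        Nat.mul_le_mul (prod_ordProj_le n.factorial_ne_zero fun p hp =>
            Nat.prime_of_mem_primeFactors (Finset.mem_filter.1 hp).1)
          (Nat.pow_le_pow_right hc1 (by omega))

end CfsgLib.Blichfeldt
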