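import Cfsg.Agent.Jordan.Near
import Mathlib.RingTheory.RootsOfUnity.Complex
import Mathlib.Analysis.SpecialFunctions.Trigonometric.Bounds

/-!
# An element with two eigenvalues `1` and `exp (2πi/p)`, `p ≥ 7`

Such an element of a finite unitary group commutes with all its conjugates: up to the scalar
`exp (-πi/p)` it lies near the identity.
-/

set_option autoImplicit false
set_option linter.unusedSectionVars false
set_option linter.style.haveILetI false

namespace CfsgLib.Blichfeldt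

open CfsgLib.Jordan
open scoped ComplexConjugate InnerProductSpace

/-- The first `p`-th root of unity. -/
noncomputable def omega (p : ℕ) : ℂ := Complex.exp (2 * Real.pi * Complex.I / p)

/-- The scalar moving `1` and `omega p` near the identity. -/
noncomputable def halfTurn (p : ℕ) : ℂ := Complex.exp (((-(Real.pi / p) : ℝ) : ℂ) * Complex.I)

theorem norm_exp_sub_discCentre_lt {θ : ℝ} (h : |θ| < Real.pi / 6) :
    ‖Complex.exp ((θ : ℂ) * Complex.I) - discCentre‖ < 1 / 2 := by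
  have hcos : Real.sqrt 3 / 2 < Real.cos θ := by
    rw [← Real.cos_pi_div_six, ← Real.cos_abs θ]
    exact Real.cos_lt_cos_of_nonneg_of_le_pi (abs_nonneg _) (by linarith [Real.pi_pos]) h
  refine lt_of_pow_lt_pow_left₀ 2 (by norm_num) ?_
  rw [Complex.sq_norm, Complex.normSq_apply]
  simp only [Complex.sub_re, Complex.sub_im, Complex.exp_ofReal_mul_I_re,
    Complex.exp_ofReal_mul_I_im, discCentre, Complex.ofReal_re, Complex.ofReal_im, sub_zero]
  have h3 : Real.sqrt 3 * Real.sqrt 3 = 3 := Real.mul_self_sqrt (by norm_num)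
  have h4 : 0 < Real.sqrt 3 := Real.sqrt_pos.2 (by norm_num)
  nlinarith [Real.sin_sq_add_cos_sq θ, mul_lt_mul_of_pos_left hcos h4]

theorem halfTurn_pow {p : ℕ} (hp : p ≠ 0) : halfTurn p ^ (2 * p) = 1 := by
  rw [halfTurn, ← Complex.exp_nat_mul]
  have : ((2 * p : ℕ) : ℂ) * (((-(Real.pi / p) : ℝ) : ℂ) * Complex.I) =
      -(2 * Real.pi * Complex.I) := by
    have hp' : (p : ℂ) ≠ 0 := Nat.cast_ne_zero.2 hp
    push_cast
    field_simp
  rw [this, Complex.exp_neg, Complex.exp_two_pi_mul_I, inv_one]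

theorem halfTurn_mul_omega (p : ℕ) :
    halfTurn p * omega p = Complex.exp (((Real.pi / p : ℝ) : ℂ) * Complex.I) := by
  rw [halfTurn, omega, ← Complex.exp_add]
  congr 1
  push_cast
  ring

variable {G : Type*} [Group G] [Finite G]
  {W : Type*} [NormedAddCommGroup W] [InnerProductSpace ℂ W] [FiniteDimensional ℂ W]
  (u : G →* (W →L[ℂ] W))

/-- An element with eigenvalues `1` and `exp (2πi/p)` only commutes with all its conjugates. -/
theorem commute_conj_of_two_eigen (hu : ∀ g w, ‖u g w‖ = ‖w‖) (hinj : ∀ g, u g = 1 → g = 1)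
    {p : ℕ} (hp : 7 ≤ p) (hω : omega p ≠ 1) (z : G)
    (hsplit : ∀ w : W, ∃ a b : W, w = a + b ∧ u z a = a ∧ u z b = omega p • b) (g : G) :
    Commute (g * z * g⁻¹) z := by
  classical
  haveI : NeZero (2 * p) := ⟨by omega⟩
  let μ := rootsOfUnity (2 * p) ℂ
  let u' : G × μ →* (W →L[ℂ] W) :=
    { toFun := fun x => ((x.2 : ℂˣ) : ℂ) • u x.1
      map_one' := by simp
      map_mul' := fun x y => by
        simp only [Prod.fst_mul, Prod.snd_mul, map_mul, Subgroup.coe_mul, Units.val_mul]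
        rw [smul_mul_smul_comm] }
  let u'' : (G × μ) ⧸ u'.ker →* (W →L[ℂ] W) := QuotientGroup.lift _ u' fun x hx => hx
  have hu'' : ∀ x : G × μ, u'' (QuotientGroup.mk x) = u' x := fun x => rfl
  have hinj'' : ∀ x, u'' x = 1 → x = 1 := by
    intro x hx
    obtain ⟨x, rfl⟩ := QuotientGroup.mk_surjective x
    rw [hu''] at hx
    exact (QuotientGroup.eq_one_iff x).2 hx
  have hnorm'' : ∀ x w, ‖u'' x w‖ = ‖w‖ := by
    intro x w
    obtain ⟨⟨k, c⟩, rfl⟩ := QuotientGroup.mk_surjective x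
    rw [hu'']
    show ‖((c : ℂˣ) : ℂ) • u k w‖ = ‖w‖
    have hc : (((c : ℂˣ) : ℂ)) ^ (2 * p) = 1 := by
      have := c.2
      rw [mem_rootsOfUnity] at this
      rw [← Units.val_pow_eq_pow_val, this, Units.val_one]
    rw [norm_smul, Complex.norm_eq_one_of_pow_eq_one hc (by omega), one_mul, hu]
  -- the shifted element lies near the identity
  let c₀ : μ := ⟨Units.mk0 (halfTurn p) (show halfTurn p ≠ 0 from Complex.exp_ne_zero _), by
    rw [mem_rootsOfUnity]
    exact Units.ext (by rw [Units.val_pow_eq_pow_val, Units.val_mk0, halfTurn_pow (by omega), Units.val_one])⟩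
  set x₀ : (G × μ) ⧸ u'.ker := QuotientGroup.mk (z, c₀) with hx₀
  have hpr : (0 : ℝ) < p := Nat.cast_pos.2 (by omega)
  have hθ : Real.pi / p < Real.pi / 6 := by
    refine div_lt_div_of_pos_left Real.pi_pos (by norm_num) ?_
    exact_mod_cast (by omega : 6 < p)
  have hθ0 : 0 < Real.pi / p := by positivity
  set r₁ := ‖Complex.exp (((-(Real.pi / p) : ℝ) : ℂ) * Complex.I) - discCentre‖ with hr₁
  set r₂ := ‖Complex.exp (((Real.pi / p : ℝ) : ℂ) * Complex.I) - discCentre‖ with hr₂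
  have hmem : x₀ ∈ nearSet u'' := by
    refine ⟨max r₁ r₂, max_lt (norm_exp_sub_discCentre_lt (by rwa [abs_neg, abs_of_pos hθ0]))
      (norm_exp_sub_discCentre_lt (by rwa [abs_of_pos hθ0])), fun w => ?_⟩
    obtain ⟨a, b, rfl, ha, hb⟩ := hsplit w
    have horth : ⟪a, b⟫_ℂ = 0 :=
      inner_eq_zero_of_ne u hu (a := 1) (by rw [ha, one_smul]) hb (Ne.symm hω)
    have e : u'' x₀ (a + b) - discCentre • (a + b) =
        (halfTurn p - discCentre) • a + (halfTurn p * omega p - discCentre) • b := by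
      rw [hx₀, hu'']
      show halfTurn p • u z (a + b) - discCentre • (a + b) = _
      rw [map_add, ha, hb, smul_add, smul_add, smul_smul, sub_smul, sub_smul]
      abel
    rw [e, halfTurn_mul_omega]
    refine le_of_pow_le_pow_left₀ two_ne_zero (mul_nonneg (le_max_of_le_left (norm_nonneg _))
      (norm_nonneg _)) ?_
    have horth' : ∀ s t : ℂ, ⟪s • a, t • b⟫_ℂ = 0 := fun s t => by
      rw [inner_smul_left, inner_smul_right, horth, mul_zero, mul_zero]
    have h1 : ‖a + b‖ ^ 2 = ‖a‖ ^ 2 + ‖b‖ ^ 2 := by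
      rw [norm_add_sq (𝕜 := ℂ), horth]; simp
    rw [norm_add_sq (𝕜 := ℂ), horth', mul_pow, h1]
    simp only [map_zero, mul_zero, add_zero, norm_smul, mul_pow]
    have h2 : ‖halfTurn p - discCentre‖ ^ 2 ≤ max r₁ r₂ ^ 2 :=
      pow_le_pow_left₀ (norm_nonneg _) (le_max_left r₁ r₂) 2
    have h3 : ‖Complex.exp (((Real.pi / p : ℝ) : ℂ) * Complex.I) - discCentre‖ ^ 2 ≤ max r₁ r₂ ^ 2 :=
      pow_le_pow_left₀ (norm_nonneg _) (le_max_right r₁ r₂) 2
    nlinarith [mul_le_mul_of_nonneg_right h2 (sq_nonneg ‖a‖),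
      mul_le_mul_of_nonneg_right h3 (sq_nonneg ‖b‖)]
  have hc := nearSet_commute u'' hnorm'' hinj''
    (nearSet_conj u'' hnorm'' (g := QuotientGroup.mk (g, (1 : μ))) hmem) hmem
  set v := g * z * g⁻¹
  have hv : (QuotientGroup.mk (g, (1 : μ)) : (G × μ) ⧸ u'.ker) * x₀ *
      (QuotientGroup.mk (g, (1 : μ)))⁻¹ = QuotientGroup.mk (v, c₀) := by
    rw [hx₀, ← QuotientGroup.mk_mul, ← QuotientGroup.mk_inv, ← QuotientGroup.mk_mul]
    simp [v]
  rw [hv] at hc
  have h1 : QuotientGroup.mk (v * z, c₀ * c₀) =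
      (QuotientGroup.mk (z * v, c₀ * c₀) : (G × μ) ⧸ u'.ker) := hc.eq
  rw [QuotientGroup.eq, MonoidHom.mem_ker] at h1
  have h2 : u ((v * z)⁻¹ * (z * v)) = 1 := by
    have : ((v * z, c₀ * c₀) : G × μ)⁻¹ * (z * v, c₀ * c₀) = ((v * z)⁻¹ * (z * v), 1) := by
      simp
    rw [this] at h1
    simpa [u'] using h1
  exact inv_mul_eq_one.1 (hinj _ h2)

end CfsgLib.Blichfeldt
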